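import Mathlib

set_option autoImplicit false

/-! The fixed-point flag of a `p`-subgroup of `SL_n` in characteristic `p`. -/

namespace CfsgLib.Unipotent

open Matrix

variable {F : Type*} [Field F] {n : ℕ}

/-- The iterated fixed-point series of a subgroup of `SL_n`. -/
def fixFlag (U : Subgroup (Matrix.SpecialLinearGroup (Fin n) F)) : ℕ → Submodule F (Fin n → F)
  | 0 => ⊥
  | i + 1 => ⨅ u : U, (fixFlag U i).comap ((u.1 : Matrix (Fin n) (Fin n) F).mulVecLin - LinearMap.id)

theorem mem_fixFlag_succ (U : Subgroup (Matrix.SpecialLinearGroup (Fin n) F)) (i : ℕ) (v : Fin n → F) :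
    v ∈ fixFlag U (i + 1) ↔ ∀ u ∈ U, (u : Matrix (Fin n) (Fin n) F) *ᵥ v - v ∈ fixFlag U i := by
  simp [fixFlag]

theorem fixFlag_le_succ (U : Subgroup (Matrix.SpecialLinearGroup (Fin n) F)) :
    ∀ i, fixFlag U i ≤ fixFlag U (i + 1)
  | 0 => bot_le
  | i + 1 => fun v hv => by
    rw [mem_fixFlag_succ] at hv ⊢
    exact fun u hu => fixFlag_le_succ U i (hv u hu)

theorem normalizer_mem_fixFlag (U : Subgroup (Matrix.SpecialLinearGroup (Fin n) F))
    (g : Matrix.SpecialLinearGroup (Fin n) F) (hg : g ∈ Subgroup.normalizer (U : Set _)) :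
    ∀ i v, v ∈ fixFlag U i → (g : Matrix (Fin n) (Fin n) F) *ᵥ v ∈ fixFlag U i
  | 0, v, hv => by
    simp only [fixFlag, Submodule.mem_bot] at hv ⊢
    simp [hv]
  | i + 1, v, hv => by
    rw [mem_fixFlag_succ] at hv ⊢
    intro u hu
    have hu' : g⁻¹ * u * g ∈ U := by
      have := (Subgroup.mem_normalizer_iff.mp (inv_mem hg) u).mp hu
      simpa using this
    have h := normalizer_mem_fixFlag U g hg i _ (hv _ hu')
    rw [Matrix.mulVec_sub, Matrix.mulVec_mulVec, ← Matrix.SpecialLinearGroup.coe_mul,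
      show g * (g⁻¹ * u * g) = u * g by group, Matrix.SpecialLinearGroup.coe_mul,
      ← Matrix.mulVec_mulVec] at h
    exact h

theorem mem_fixFlag_of_mem (U : Subgroup (Matrix.SpecialLinearGroup (Fin n) F))
    (u : Matrix.SpecialLinearGroup (Fin n) F) (hu : u ∈ U) (i : ℕ) (v : Fin n → F) (hv : v ∈ fixFlag U i) :
    (u : Matrix (Fin n) (Fin n) F) *ᵥ v ∈ fixFlag U i :=
  normalizer_mem_fixFlag U u (Subgroup.le_normalizer hu) i v hv

theorem fixFlag_lt_succ [Fintype F] (p : ℕ) [Fact p.Prime] [CharP F p]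
    (U : Subgroup (Matrix.SpecialLinearGroup (Fin n) F)) (hU : IsPGroup p U) (i : ℕ)
    (hne : fixFlag U i ≠ ⊤) : fixFlag U i < fixFlag U (i + 1) := by
  classical
  let W := fixFlag U i
  let f : U → ((Fin n → F) ⧸ W) →ₗ[F] ((Fin n → F) ⧸ W) := fun u =>
    W.mapQ W (u.1 : Matrix (Fin n) (Fin n) F).mulVecLin fun v hv => mem_fixFlag_of_mem U u.1 u.2 i v hv
  letI : MulAction U ((Fin n → F) ⧸ W) :=
    { smul := fun u x => f u x
      one_smul := fun x => Quotient.inductionOn' x fun v => by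
        change Submodule.Quotient.mk _ = Submodule.Quotient.mk v
        simp
      mul_smul := fun a b x => Quotient.inductionOn' x fun v => by
        change Submodule.Quotient.mk _ = Submodule.Quotient.mk _
        simp [Matrix.mulVec_mulVec] }
  haveI : Nontrivial ((Fin n → F) ⧸ W) := Submodule.Quotient.nontrivial_iff.mpr hne
  have hdvd : p ∣ Nat.card ((Fin n → F) ⧸ W) := by
    rw [Module.natCard_eq_pow_finrank (K := F)]
    obtain ⟨k, hpr, hk⟩ := FiniteField.card F p
    rw [Nat.card_eq_fintype_card, hk]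
    exact dvd_pow (dvd_pow_self p k.ne_zero) Module.finrank_pos.ne'
  have h0 : (0 : (Fin n → F) ⧸ W) ∈ MulAction.fixedPoints U ((Fin n → F) ⧸ W) := fun u => map_zero (f u)
  obtain ⟨x, hx, hx0⟩ := hU.exists_fixed_point_of_prime_dvd_card_of_fixed_point _ hdvd h0
  obtain ⟨v, rfl⟩ := Submodule.Quotient.mk_surjective W x
  refine lt_of_le_of_ne (fixFlag_le_succ U i) fun h => hx0 ?_
  refine ((Submodule.Quotient.mk_eq_zero W).mpr ?_).symm
  change v ∈ fixFlag U i
  rw [h, mem_fixFlag_succ]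
  intro u hu
  exact (Submodule.Quotient.eq W).mp (hx ⟨u, hu⟩)

theorem borel_tits [Fintype F] (p : ℕ) [Fact p.Prime] [CharP F p]
    (U : Subgroup (Matrix.SpecialLinearGroup (Fin n) F)) (hU : IsPGroup p U) (hne : U ≠ ⊥) :
    ∃ (k : ℕ) (V : Fin (k + 2) → Submodule F (Fin n → F)), 1 ≤ k ∧ StrictMono V ∧ V 0 = ⊥ ∧
      V (Fin.last (k + 1)) = ⊤ ∧
      (∀ g ∈ Subgroup.normalizer (U : Set (Matrix.SpecialLinearGroup (Fin n) F)),
        ∀ i, (V i).map (Matrix.mulVecLin (g : Matrix (Fin n) (Fin n) F)) = V i) ∧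
      (∀ u ∈ U, ∀ i : Fin (k + 1), ∀ v ∈ V i.succ,
        (u : Matrix (Fin n) (Fin n) F).mulVec v - v ∈ V (Fin.castSucc i)) := by
  classical
  have hex : ∃ K, fixFlag U K = ⊤ := by
    by_contra hcon
    push Not at hcon
    have hlt : ∀ i, i ≤ Module.finrank F (fixFlag U i) := by
      intro i
      induction i with
      | zero => exact Nat.zero_le _
      | succ i ih =>
        have := Submodule.finrank_lt_finrank_of_lt (fixFlag_lt_succ p U hU i (hcon i))
        omega
    have := (hlt (n + 1)).trans (Submodule.finrank_le _)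
    simp at this
  have hK := Nat.find_spec hex
  have hmin : ∀ i, i < Nat.find hex → fixFlag U i ≠ ⊤ := fun i hi => Nat.find_min hex hi
  have hK2 : 2 ≤ Nat.find hex := by
    have h1 : fixFlag U 1 ≠ ⊤ := by
      intro h
      refine hne (eq_bot_iff.mpr fun u hu => Subgroup.mem_bot.mpr (Subtype.ext ?_))
      refine Matrix.ext_of_mulVec_single fun a => ?_
      have h2 : Pi.single a (1 : F) ∈ fixFlag U (0 + 1) := by rw [zero_add, h]; trivial
      rw [mem_fixFlag_succ] at h2
      have h3 := h2 u hu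
      simp only [fixFlag, Submodule.mem_bot, sub_eq_zero] at h3
      rw [h3, Matrix.SpecialLinearGroup.coe_one, Matrix.one_mulVec]
    rcases Nat.lt_or_ge (Nat.find hex) 2 with h | h
    · exfalso
      interval_cases hh : Nat.find hex
      · exact h1 (top_unique (hK ▸ fixFlag_le_succ U 0))
      · exact h1 hK
    · exact h
  obtain ⟨k, hk⟩ : ∃ k, Nat.find hex = k + 1 := ⟨Nat.find hex - 1, by omega⟩
  refine ⟨k, fun i => fixFlag U i.val, by omega, ?_, rfl, ?_, ?_, ?_⟩
  · refine Fin.strictMono_iff_lt_succ.mpr fun i => ?_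
    exact fixFlag_lt_succ p U hU i.val (hmin _ (by have := i.isLt; omega))
  · change fixFlag U (Fin.last (k + 1)).val = ⊤
    rw [Fin.val_last, ← hk, hK]
  · intro g hg i
    refine le_antisymm (Submodule.map_le_iff_le_comap.mpr fun v hv => normalizer_mem_fixFlag U g hg _ v hv) ?_
    intro v hv
    refine ⟨((g⁻¹ : Matrix.SpecialLinearGroup (Fin n) F) : Matrix (Fin n) (Fin n) F) *ᵥ v,
      normalizer_mem_fixFlag U g⁻¹ (inv_mem hg) _ v hv, ?_⟩
    rw [Matrix.mulVecLin_apply, Matrix.mulVec_mulVec, ← Matrix.SpecialLinearGroup.coe_mul,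
      mul_inv_cancel, Matrix.SpecialLinearGroup.coe_one, Matrix.one_mulVec]
  · intro u hu i v hv
    exact (mem_fixFlag_succ U i.val v).mp hv u hu

end CfsgLib.Unipotent
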