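import Cfsg.Agent.Lib.Unipotent.Flag

set_option autoImplicit false

/-! Elements of `PSL_n` commuting with an element of order `p`. -/

namespace CfsgLib.Unipotent

open Matrix

variable {F : Type*} [Field F] [Fintype F]

theorem dvd_card_sl_of_dvd_card_gl {m : ℕ} (hm : 2 ≤ m) {r : ℕ} (hr : r.Prime)
    (h : r ∣ Nat.card (GL (Fin m) F)) : r ∣ Nat.card (Matrix.SpecialLinearGroup (Fin m) F) := by
  classical
  let det : GL (Fin m) F →* Fˣ := Matrix.GeneralLinearGroup.det
  have h1 : Nat.card (GL (Fin m) F) = Nat.card det.ker * Nat.card det.range := by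
    rw [← Subgroup.index_ker, Subgroup.card_mul_index]
  have h2 : Nat.card det.ker ≤ Nat.card (Matrix.SpecialLinearGroup (Fin m) F) :=
    Nat.card_le_card_of_injective
      (fun g => (⟨(g.1 : Matrix (Fin m) (Fin m) F), congrArg Units.val g.2⟩ : Matrix.SpecialLinearGroup (Fin m) F))
      (fun a b e => Subtype.ext (Units.ext (congrArg Subtype.val e)))
  have h3 : Nat.card (Matrix.SpecialLinearGroup (Fin m) F) ≤ Nat.card det.ker :=
    Nat.card_le_card_of_injective
      (fun g => (⟨Matrix.SpecialLinearGroup.toGL g, Units.ext g.det_coe⟩ : det.ker))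
      (fun a b e => Matrix.SpecialLinearGroup.toGL_injective (congrArg Subtype.val e))
  rw [h1, le_antisymm h2 h3] at h
  rcases hr.dvd_mul.mp h with h | h
  · exact h
  · let d : Fˣ →* Matrix.SpecialLinearGroup (Fin m) F :=
      { toFun := fun t => ⟨Matrix.diagonal (fun i => if i = ⟨0, by omega⟩ then (t : F)
            else if i = ⟨1, by omega⟩ then ((t⁻¹ : Fˣ) : F) else 1), by
          rw [Matrix.det_diagonal,
            ← Finset.prod_subset (Finset.subset_univ {(⟨0, by omega⟩ : Fin m), ⟨1, by omega⟩})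
              (fun i _ hi => by simp at hi; rw [if_neg hi.1, if_neg hi.2]),
            Finset.prod_pair (by simp)]
          simp⟩
        map_one' := Subtype.ext (by simp [Matrix.diagonal_one])
        map_mul' := fun a b => Subtype.ext (by
          change Matrix.diagonal _ = Matrix.diagonal _ * Matrix.diagonal _
          rw [Matrix.diagonal_mul_diagonal]
          congr 1
          funext i
          split_ifs <;> simp [mul_comm]) }
    have hd : Function.Injective d := by
      intro a b e
      have h0 := congrArg Subtype.val e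
      change Matrix.diagonal _ = Matrix.diagonal _ at h0
      have := congrFun (Matrix.diagonal_injective h0) ⟨0, by omega⟩
      simp at this
      exact Units.ext this
    exact (h.trans (det.range.card_subgroup_dvd_card)).trans (Subgroup.card_dvd_of_injective d hd)

theorem char_dvd_card_sl (p : ℕ) [Fact p.Prime] [CharP F p] {m : ℕ} (hm : 2 ≤ m) :
    p ∣ Nat.card (Matrix.SpecialLinearGroup (Fin m) F) := by
  classical
  let a : Fin m := ⟨0, by omega⟩
  let b : Fin m := ⟨1, by omega⟩
  have hab : a ≠ b := by simp [a, b]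
  let u : Matrix.SpecialLinearGroup (Fin m) F := ⟨Matrix.transvection a b 1, Matrix.det_transvection_of_ne a b hab 1⟩
  have hk : ∀ k : ℕ, ((u ^ k : Matrix.SpecialLinearGroup (Fin m) F) : Matrix (Fin m) (Fin m) F) =
      Matrix.transvection a b (k : F) := by
    intro k
    induction k with
    | zero => simp
    | succ k ih =>
      rw [pow_succ, Matrix.SpecialLinearGroup.coe_mul, ih]
      change _ * Matrix.transvection a b (1 : F) = _
      rw [Matrix.transvection_mul_transvection_same a b hab]
      simp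
  have hne : u ≠ 1 := fun h => by
    have := congrFun (congrFun (congrArg Subtype.val h) a) b
    simp [u, Matrix.transvection, hab] at this
  have hp : u ^ p = 1 := Subtype.ext (by rw [hk, CharP.cast_eq_zero]; simp)
  exact (orderOf_eq_prime hp hne) ▸ orderOf_dvd_natCard u

theorem psl_commute_primes (p : ℕ) [Fact p.Prime] [CharP F p] (n : ℕ) (hn : 4 ≤ n)
    (a b : Matrix.ProjectiveSpecialLinearGroup (Fin n) F) (ha : orderOf a = p) (hab : Commute a b) :
    (orderOf b).primeFactors ⊆ (Nat.card (Matrix.SpecialLinearGroup (Fin (n - 2)) F)).primeFactors := by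
  classical
  intro r hr
  obtain ⟨hrp, hrb, -⟩ := Nat.mem_primeFactors.mp hr
  refine Nat.mem_primeFactors.mpr ⟨hrp, ?_, Nat.card_pos.ne'⟩
  by_cases hrpp : r = p
  · subst hrpp; exact char_dvd_card_sl r (by omega)
  by_contra hcon
  have hgl : ¬ r ∣ Nat.card (GL (Fin (n - 2)) F) := fun h =>
    hcon (dvd_card_sl_of_dvd_card_gl (by omega) hrp h)
  haveI : Nonempty (Fin n) := ⟨⟨0, by omega⟩⟩
  set Z := Subgroup.center (Matrix.SpecialLinearGroup (Fin n) F) with hZ
  -- scalars of `p`-power order are trivial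
  have hscal : ∀ c : F, c ^ p = 1 → c = 1 := fun c hc =>
    frobenius_inj F p (by rw [frobenius_def, frobenius_def, one_pow, hc])
  -- a lift of order `p`
  obtain ⟨A₀, rfl⟩ := QuotientGroup.mk_surjective a
  have hA₀p : A₀ ^ p ∈ Z := by
    rw [← QuotientGroup.eq_one_iff, QuotientGroup.mk_pow, ← ha, pow_orderOf_eq_one]
  obtain ⟨c₀, hc₀, hc₀'⟩ := Matrix.SpecialLinearGroup.mem_center_iff.mp hA₀p
  have hcop : (orderOf (A₀ ^ p)).Coprime p := by
    have hc0 : c₀ ≠ 0 := fun h => by
      rw [h, zero_pow (by rw [Fintype.card_fin]; omega)] at hc₀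
      exact zero_ne_one hc₀
    have : orderOf (A₀ ^ p) ∣ Fintype.card F - 1 := by
      refine orderOf_dvd_of_pow_eq_one (Subtype.ext ?_)
      rw [Matrix.SpecialLinearGroup.coe_pow, ← hc₀', ← map_pow, FiniteField.pow_card_sub_one_eq_one c₀ hc0,
        map_one]
      rfl
    refine Nat.Coprime.coprime_dvd_left this ?_
    obtain ⟨k, hp', hk⟩ := FiniteField.card F p
    refine ((Nat.Prime.coprime_iff_not_dvd hp').mpr fun h => ?_).symm
    have h1 : p ∣ Fintype.card F := hk ▸ dvd_pow_self p k.ne_zero
    have h2 := Nat.dvd_sub h1 h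
    rw [Nat.sub_sub_self Fintype.card_pos] at h2
    exact hp'.not_dvd_one h2
  obtain ⟨s, hs1, hs2⟩ : ∃ s, s ≡ 1 [MOD p] ∧ s ≡ 0 [MOD orderOf (A₀ ^ p)] :=
    ⟨_, (Nat.chineseRemainder hcop.symm 1 0).2⟩
  let A := A₀ ^ s
  have hAp : A ^ p = 1 := by
    rw [← pow_mul, mul_comm, pow_mul]
    exact orderOf_dvd_iff_pow_eq_one.mp (Nat.modEq_zero_iff_dvd.mp hs2)
  have hAa : (A : Matrix.ProjectiveSpecialLinearGroup (Fin n) F) =
      (A₀ : Matrix.ProjectiveSpecialLinearGroup (Fin n) F) := by
    rw [QuotientGroup.mk_pow]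
    conv_rhs => rw [← pow_one (A₀ : Matrix.ProjectiveSpecialLinearGroup (Fin n) F)]
    exact pow_eq_pow_iff_modEq.mpr (ha ▸ hs1)
  -- an element of `r`-power order
  obtain ⟨B, rfl⟩ := QuotientGroup.mk_surjective b
  have hord := orderOf_map_dvd (QuotientGroup.mk' Z) B
  obtain ⟨i, l, hl, hdecomp⟩ := Nat.exists_eq_pow_mul_and_not_dvd (orderOf_pos B).ne' r hrp.ne_one
  let X := B ^ l
  have hX : X ^ r ^ i = 1 := by rw [← pow_mul, mul_comm, ← hdecomp, pow_orderOf_eq_one]
  have hXne : (X : Matrix.ProjectiveSpecialLinearGroup (Fin n) F) ≠ 1 := by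
    intro h
    rw [QuotientGroup.mk_pow, ← orderOf_dvd_iff_pow_eq_one] at h
    exact hl (hrb.trans h)
  have hAX : Commute A X := by
    have hcomm : (A : Matrix.ProjectiveSpecialLinearGroup (Fin n) F) * B = B * A := by rw [hAa]; exact hab
    have hz : B * A * B⁻¹ * A⁻¹ ∈ Z := by
      rw [← QuotientGroup.eq_one_iff]
      simp only [QuotientGroup.mk_mul, QuotientGroup.mk_inv]
      rw [← hcomm, mul_inv_cancel_right, mul_inv_cancel]
    obtain ⟨c, -, hc'⟩ := Matrix.SpecialLinearGroup.mem_center_iff.mp hz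
    set z := B * A * B⁻¹ * A⁻¹ with hzdef
    have hzA : z * A = B * A * B⁻¹ := by rw [hzdef]; group
    have hzc : Commute z A := (Subgroup.mem_center_iff.mp hz A).symm
    have hzp : z ^ p = 1 := by
      have h1 := hzc.mul_pow p
      rw [hzA, conj_pow, hAp, mul_one, mul_inv_cancel, mul_one] at h1
      exact h1.symm
    have hc1 : c = 1 := hscal c (by
      have h1 := congrFun (congrFun (congrArg Subtype.val hzp) ⟨0, by omega⟩) ⟨0, by omega⟩
      rw [Matrix.SpecialLinearGroup.coe_pow, ← hc', ← map_pow] at h1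
      simpa using h1)
    have hz1 : z = 1 := Subtype.ext (by rw [← hc', hc1, map_one]; rfl)
    have hBA : Commute A B := by
      rw [hz1, one_mul] at hzA
      exact (eq_mul_inv_iff_mul_eq.mp hzA)
    exact hBA.pow_right l
  -- the square-zero power of `A - 1`
  have hcopX : (r ^ i).Coprime p := ((Nat.coprime_primes hrp Fact.out).mpr hrpp).pow_left i
  let N : Matrix (Fin n) (Fin n) F := (A : Matrix (Fin n) (Fin n) F) - 1
  have hN0 : N ≠ 0 := by
    intro h
    have h1 : A = 1 := Subtype.ext (sub_eq_zero.mp h)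
    have h2 := ha
    rw [← hAa, h1, QuotientGroup.mk_one, orderOf_one] at h2
    exact (Fact.out : p.Prime).ne_one h2.symm
  have hNp : N ^ p = 0 := by
    simp only [N]
    rw [sub_pow_char_of_commute (p := p) (Commute.one_right (A : Matrix (Fin n) (Fin n) F)), one_pow,
      ← Matrix.SpecialLinearGroup.coe_pow, hAp, Matrix.SpecialLinearGroup.coe_one, sub_self]
  obtain ⟨k, hk1, hk2⟩ : ∃ k, N ^ k ≠ 0 ∧ N ^ (k + k) = 0 := by
    have hex : ∃ k, N ^ k = 0 := ⟨p, hNp⟩
    have h1 : Nat.find hex ≠ 0 := fun h => by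
      have := Nat.find_spec hex
      rw [h, pow_zero] at this
      exact one_ne_zero this
    have h2 : 2 ≤ Nat.find hex := by
      rcases Nat.lt_or_ge (Nat.find hex) 2 with h | h
      · have hh := Nat.find_spec hex
        rw [show Nat.find hex = 1 by omega, pow_one] at hh
        exact absurd hh hN0
      · exact h
    exact ⟨Nat.find hex - 1, Nat.find_min hex (by omega),
      pow_eq_zero_of_le (by omega) (Nat.find_spec hex)⟩
  have hXc : (X : Matrix (Fin n) (Fin n) F) * N ^ k = N ^ k * (X : Matrix (Fin n) (Fin n) F) := by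
    have h1 : Commute (X : Matrix (Fin n) (Fin n) F) (A : Matrix (Fin n) (Fin n) F) := by
      rw [Commute, SemiconjBy, ← Matrix.SpecialLinearGroup.coe_mul, ← Matrix.SpecialLinearGroup.coe_mul,
        hAX.eq]
    exact ((h1.sub_right (Commute.one_right _)).pow_right k).eq
  have hX1 := eq_one_of_commute_sq_zero hn hrp hrpp hgl (N ^ k) (X : Matrix (Fin n) (Fin n) F) hk1
    (by rw [← pow_add, hk2]) (i := i)
    (by rw [← Matrix.SpecialLinearGroup.coe_pow, hX, Matrix.SpecialLinearGroup.coe_one]) hXc
  exact hXne (by rw [show X = 1 from Subtype.ext hX1, QuotientGroup.mk_one])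

end CfsgLib.Unipotent
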