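import Mathlib

set_option autoImplicit false

/-!
Elements of order prime to the characteristic on a flag: if trivial on the three sections they are trivial;
if non-trivial on a small space their prime divides the order of a small general linear group.
-/

namespace CfsgLib.Unipotent

open Matrix Module

variable {F : Type*} [Field F]

/-- A non-trivial endomorphism of `r`-power order of a space of dimension at most `N` forces `r ∣ |GL_N|`. -/
theorem dvd_card_gl_of_pow [Fintype F] {U : Type*} [AddCommGroup U] [Module F U] [Module.Finite F U]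
    {N : ℕ} (hN : finrank F U ≤ N) {r i : ℕ} (hr : r.Prime) (f : U →ₗ[F] U) (hf : f ^ r ^ i = 1)
    (hne : f ≠ 1) : r ∣ Nat.card (GL (Fin N) F) := by
  classical
  let W := U × (Fin (N - finrank F U) → F)
  have hW : finrank F W = N := by
    rw [finrank_prod, finrank_pi, Fintype.card_fin]; omega
  let b : Basis (Fin N) F W := Module.finBasisOfFinrankEq F W hW
  let g : Module.End F W := LinearMap.prodMap f 1
  have hg : g ^ r ^ i = 1 := by
    have hk : ∀ k, g ^ k = LinearMap.prodMap (f ^ k) 1 := by
      intro k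
      induction k with
      | zero => ext <;> simp
      | succ k ih => rw [pow_succ, ih, pow_succ f k]; exact LinearMap.ext fun x => rfl
    rw [hk, hf]; ext <;> simp
  have hgne : g ≠ 1 := by
    intro h
    refine hne (LinearMap.ext fun u => ?_)
    exact congrArg Prod.fst (LinearMap.congr_fun h (u, 0))
  let M : Matrix (Fin N) (Fin N) F := LinearMap.toMatrixAlgEquiv b g
  have hM : M ^ r ^ i = 1 := by rw [← map_pow, hg, map_one]
  let u : GL (Fin N) F := Units.ofPowEqOne M _ hM (pow_ne_zero _ hr.ne_zero)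
  have hu : u ^ r ^ i = 1 := Units.ext (by rw [Units.val_pow_eq_pow_val]; exact hM)
  obtain ⟨k, -, hk⟩ := (Nat.dvd_prime_pow hr).mp (orderOf_dvd_of_pow_eq_one hu)
  have hk0 : k ≠ 0 := by
    intro h
    rw [h, pow_zero, orderOf_eq_one_iff] at hk
    refine hgne ((LinearMap.toMatrixAlgEquiv b).injective ?_)
    rw [map_one]
    exact congrArg Units.val hk
  exact (dvd_pow_self r hk0).trans (hk ▸ orderOf_dvd_natCard u)

/-- Trivial on three sections and of order prime to `p` implies trivial. -/
theorem eq_one_of_flag {p : ℕ} [Fact p.Prime] [CharP F p] {ι : Type*} [Fintype ι] [DecidableEq ι]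
    (X : Matrix ι ι F) {N : ℕ} (hX : X ^ N = 1) (hN : N.Coprime p)
    (W₁ W₂ : Submodule F (ι → F)) (h1 : ∀ v ∈ W₁, X *ᵥ v = v)
    (h2 : ∀ v ∈ W₂, X *ᵥ v - v ∈ W₁) (h3 : ∀ v, X *ᵥ v - v ∈ W₂) : X = 1 := by
  rcases isEmpty_or_nonempty ι with hι | hι
  · exact Subsingleton.elim _ _
  have hcube : (X - 1) ^ 3 = 0 := by
    refine Matrix.ext_of_mulVec_single fun a => ?_
    rw [Matrix.zero_mulVec]
    generalize (Pi.single a (1 : F) : ι → F) = v
    have e : ∀ w : ι → F, (X - 1) *ᵥ w = X *ᵥ w - w := fun w => by rw [Matrix.sub_mulVec, Matrix.one_mulVec]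
    rw [pow_succ, pow_two, ← Matrix.mulVec_mulVec, ← Matrix.mulVec_mulVec, e v, e (X *ᵥ v - v), e]
    exact sub_eq_zero.mpr (h1 _ (h2 _ (h3 v)))
  have hp2 : 3 ≤ p ^ 2 := by
    have := (Fact.out : p.Prime).two_le
    nlinarith
  have h := pow_eq_zero_of_le hp2 hcube
  rw [sub_pow_char_pow_of_commute (p := p) (n := 2) (Commute.one_right X), one_pow, sub_eq_zero] at h
  have := pow_gcd_eq_one.mpr ⟨hX, h⟩
  rwa [(hN.pow_right 2).gcd_eq_one, pow_one] at this

/-- The sections of a nilpotent square-zero map: a commuting element of `r`-power order prime to `p` is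
trivial unless `r` divides the order of `GL_(n-2)`. -/
theorem eq_one_of_commute_sq_zero [Fintype F] {p : ℕ} [Fact p.Prime] [CharP F p] {n : ℕ} (hn : 4 ≤ n)
    {r i : ℕ} (hr : r.Prime) (hrp : r ≠ p) (hrd : ¬ r ∣ Nat.card (GL (Fin (n - 2)) F))
    (M X : Matrix (Fin n) (Fin n) F) (hM : M ≠ 0) (hM2 : M * M = 0) (hX : X ^ r ^ i = 1)
    (hc : X * M = M * X) : X = 1 := by
  classical
  let W₁ := LinearMap.range M.mulVecLin
  let W₂ := LinearMap.ker M.mulVecLin
  have hle : W₁ ≤ W₂ := by
    rintro _ ⟨v, rfl⟩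
    simp [W₂, Matrix.mulVec_mulVec, hM2]
  have hsum : finrank F W₁ + finrank F W₂ = n := by
    simpa using LinearMap.finrank_range_add_finrank_ker M.mulVecLin
  have hd : 1 ≤ finrank F W₁ := by
    rw [Nat.one_le_iff_ne_zero]
    intro h
    rw [Submodule.finrank_eq_zero] at h
    refine hM (Matrix.ext_of_mulVec_single fun a => ?_)
    have : M.mulVecLin (Pi.single a 1) ∈ W₁ := LinearMap.mem_range_self _ _
    rw [h, Submodule.mem_bot] at this
    rw [Matrix.zero_mulVec]; exact this
  have hd2 := Submodule.finrank_mono hle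
  have i1 : ∀ v ∈ W₁, X.mulVecLin v ∈ W₁ := by
    rintro _ ⟨v, rfl⟩
    exact ⟨X *ᵥ v, by simp [Matrix.mulVec_mulVec, hc]⟩
  have i2 : ∀ v ∈ W₂, X.mulVecLin v ∈ W₂ := by
    intro v hv
    simp only [W₂, LinearMap.mem_ker, Matrix.mulVecLin_apply] at hv ⊢
    rw [Matrix.mulVec_mulVec, ← hc, ← Matrix.mulVec_mulVec, hv, Matrix.mulVec_zero]
  have hpowv : ∀ k (v : Fin n → F), (X.mulVecLin ^ k) v = (X ^ k) *ᵥ v := by
    intro k
    induction k with
    | zero => simp
    | succ k ih => intro v; rw [pow_succ', Module.End.mul_apply, ih, pow_succ', ← Matrix.mulVec_mulVec]; rfl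
  have key : ∀ (U : Type _) [AddCommGroup U] [Module F U] [Module.Finite F U] (f : U →ₗ[F] U),
      finrank F U ≤ n - 2 → f ^ r ^ i = 1 → f = 1 := fun U _ _ _ f hU hf => by
    by_contra hne
    exact hrd (dvd_card_gl_of_pow hU hr f hf hne)
  have e1 : ∀ v ∈ W₁, X *ᵥ v = v := by
    have h := key W₁ (X.mulVecLin.restrict i1) (by omega) (LinearMap.ext fun v => Subtype.ext (by
      rw [Module.End.pow_restrict _ i1, LinearMap.coe_restrict_apply, hpowv, hX]; simp))
    intro v hv
    exact congrArg Subtype.val (LinearMap.congr_fun h ⟨v, hv⟩)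
  have e2 : ∀ v ∈ W₂, X *ᵥ v - v ∈ W₁ := by
    let W₁' : Submodule F W₂ := W₁.comap W₂.subtype
    let f := W₁'.mapQ W₁' (X.mulVecLin.restrict i2) (fun v hv => i1 v.1 hv)
    have hrank : finrank F (W₂ ⧸ W₁') ≤ n - 2 := by
      have h1 := W₁'.finrank_quotient_add_finrank
      have h2 : finrank F W₁' = finrank F W₁ :=
        (Submodule.comapSubtypeEquivOfLe hle).finrank_eq
      omega
    have hf : f ^ r ^ i = 1 := by
      have hk : ∀ k (v : W₂), (f ^ k) (Submodule.Quotient.mk v) =
          Submodule.Quotient.mk ((X.mulVecLin.restrict i2 ^ k) v) := by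
        intro k
        induction k with
        | zero => simp
        | succ k ih => intro v; rw [pow_succ', Module.End.mul_apply, ih, pow_succ', Module.End.mul_apply]; rfl
      refine LinearMap.ext fun x => ?_
      obtain ⟨v, rfl⟩ := Submodule.Quotient.mk_surjective _ x
      rw [hk, Module.End.one_apply]
      congr 1
      exact Subtype.ext (by rw [Module.End.pow_restrict _ i2, LinearMap.coe_restrict_apply, hpowv, hX]; simp)
    have h := key _ f hrank hf
    intro v hv
    have h' := LinearMap.congr_fun h (Submodule.Quotient.mk (⟨v, hv⟩ : W₂))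
    exact (Submodule.Quotient.eq W₁').mp h'
  have e3 : ∀ v, X *ᵥ v - v ∈ W₂ := by
    let f := W₂.mapQ W₂ X.mulVecLin (fun v hv => i2 v hv)
    have hrank : finrank F ((Fin n → F) ⧸ W₂) ≤ n - 2 := by
      have h1 := W₂.finrank_quotient_add_finrank
      simp only [finrank_pi, Fintype.card_fin] at h1
      omega
    have hf : f ^ r ^ i = 1 := by
      have hk : ∀ k (v : Fin n → F), (f ^ k) (Submodule.Quotient.mk v) =
          Submodule.Quotient.mk ((X.mulVecLin ^ k) v) := by
        intro k
        induction k with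
        | zero => simp
        | succ k ih => intro v; rw [pow_succ', Module.End.mul_apply, ih, pow_succ', Module.End.mul_apply]; rfl
      refine LinearMap.ext fun x => ?_
      obtain ⟨v, rfl⟩ := Submodule.Quotient.mk_surjective _ x
      rw [hk, hpowv, hX]; simp
    have h := key _ f hrank hf
    intro v
    exact (Submodule.Quotient.eq W₂).mp (LinearMap.congr_fun h (Submodule.Quotient.mk v))
  exact eq_one_of_flag X hX (((Nat.coprime_primes hr Fact.out).mpr hrp).pow_left i) W₁ W₂ e1 e2 e3

end CfsgLib.Unipotent
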