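import Mathlib
import Cfsg.Agent.Lib.Unipotent.Flag
import Cfsg.Agent.Lib.ClassicalGroups.HermGroup
import Cfsg.Agent.Lib.ClassicalGroups.UnitaryBasic
import Cfsg.Agent.Lib.UnitaryEmbed.HermSpace

/-!
Elements of `PSU_m` commuting with an element of order `p`: their order involves only primes of `|SU_(m-2)|`.
-/

set_option autoImplicit false
set_option linter.unusedSectionVars false

namespace CfsgLib.UnipotentPSU

open Matrix Module CfsgLib.ClassicalGroups

variable {F : Type*} [Field F] [Fintype F] {q : ℕ}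

theorem card_gu_dvd (hF : Fintype.card F = q ^ 2) {a b : ℕ} (hab : a ≤ b) :
    Nat.card (Cfsg.GU a F q) ∣ Nat.card (Cfsg.GU b F q) := by
  induction hab with
  | refl => rfl
  | step _ ih => exact ih.trans (card_GU_succ hF _ ▸ Dvd.intro_left _ rfl)

theorem succ_q_dvd_card_su (hF : Fintype.card F = q ^ 2) {n : ℕ} (hn : 2 ≤ n) :
    (q + 1) ∣ Nat.card (Cfsg.SU n F q) := by
  have h := card_gu_dvd hF hn
  have h2 : (q + 1) * (q + 1) ∣ Nat.card (Cfsg.GU 2 F q) := by
    refine ⟨q * (q - 1), ?_⟩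
    rw [card_GU hF]
    have := herm_two_le hF
    have e1 : 1 ≤ q ^ 2 := Nat.one_le_pow _ _ (by omega)
    simp only [Finset.prod_range_succ, Finset.prod_range_zero, one_mul]
    norm_num
    zify [e1, show 1 ≤ q by omega]
    ring
  have h3 := h2.trans h
  rw [← card_SU_mul hF (show 1 ≤ n by omega)] at h3
  exact Nat.dvd_of_mul_dvd_mul_left (Nat.succ_pos q) h3

theorem prime_dvd_card_su_of_gu (hF : Fintype.card F = q ^ 2) {n r : ℕ} (hn : 2 ≤ n) (hr : r.Prime)
    (h : r ∣ Nat.card (Cfsg.GU n F q)) : r ∣ Nat.card (Cfsg.SU n F q) := by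
  rw [← card_SU_mul hF (show 1 ≤ n by omega)] at h
  exact (hr.dvd_mul.1 h).elim (fun h => h.trans (succ_q_dvd_card_su hF hn)) id

theorem char_dvd_card_su (hF : Fintype.card F = q ^ 2) (p : ℕ) [Fact p.Prime] [CharP F p] {n : ℕ} (hn : 2 ≤ n) :
    p ∣ Nat.card (Cfsg.SU n F q) := by
  obtain ⟨k, hp, hk⟩ := FiniteField.card F p
  have hpq : p ∣ q := hp.dvd_of_dvd_pow (n := 2) (by rw [← hF, hk]; exact dvd_pow_self p k.ne_zero)
  have h2 : q ∣ Nat.card (Cfsg.GU 2 F q) := by
    rw [card_GU hF]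
    exact Dvd.dvd.mul_right (by norm_num) _
  exact prime_dvd_card_su_of_gu hF hn hp ((hpq.trans h2).trans (card_gu_dvd hF hn))

/-- An isometry of `r`-power order of a small non-degenerate Hermitian space is trivial unless `r` divides
the order of the unitary group. -/
theorem eq_one_of_isometry (hF : Fintype.card F = q ^ 2) {N r i : ℕ} (hr : r.Prime)
    (hrd : ¬ r ∣ Nat.card (Cfsg.GU N F q)) {U : Type*} [AddCommGroup U] [Module F U] [FiniteDimensional F U]
    (hU : finrank F U ≤ N) (β : U →ₛₗ[hermConj hF] U →ₗ[F] F)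
    (hs : ∀ u v, hermConj hF (β u v) = β v u) (hnd : β.SeparatingLeft) (f : U →ₗ[F] U)
    (hf : f ^ r ^ i = 1) (hfβ : ∀ u v, β (f u) (f v) = β u v) : f = 1 := by
  by_contra hne
  obtain ⟨e, he⟩ := CfsgLib.UnitaryEmbed.exists_std_equiv hF (hermConj hF) (hermConj_apply hF) (hermConj_ne_id hF)
    (hermConj_hermConj hF) β hs hnd rfl
  let L : (Fin (finrank F U) → F) →ₗ[F] (Fin (finrank F U) → F) :=
    e.symm.toLinearMap ∘ₗ f ∘ₗ e.toLinearMap
  obtain ⟨g, hg⟩ := exists_GU_of_preserving hF L (fun u v => by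
    simp only [L, LinearMap.comp_apply, LinearEquiv.coe_coe]
    rw [← he, ← he, e.apply_symm_apply, e.apply_symm_apply, hfβ])
  have hgk : ∀ (k : ℕ) x, (g ^ k).1.val *ᵥ x = e.symm ((f ^ k) (e x)) := by
    intro k
    induction k with
    | zero => intro x; simp
    | succ k ih =>
      intro x
      rw [pow_succ, Subgroup.coe_mul, Units.val_mul, ← mulVec_mulVec, ih, hg, pow_succ, Module.End.mul_apply]
      simp [L]
  have hgp : g ^ r ^ i = 1 := GU_ext fun x => by rw [hgk, hf]; simp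
  obtain ⟨k, -, hk⟩ := (Nat.dvd_prime_pow hr).mp (orderOf_dvd_of_pow_eq_one hgp)
  have hk0 : k ≠ 0 := by
    intro h
    rw [h, pow_zero, orderOf_eq_one_iff] at hk
    refine hne (LinearMap.ext fun u => ?_)
    have h1 := hg (e.symm u)
    rw [hk] at h1
    simp [L] at h1
    exact h1.symm
  exact hrd (((dvd_pow_self r hk0).trans (hk ▸ orderOf_dvd_natCard g)).trans (card_gu_dvd hF hU))

/-- A unitary matrix commuting with a self-adjoint (up to sign) square-zero map. -/
theorem eq_one_of_commute (hF : Fintype.card F = q ^ 2) {p : ℕ} [Fact p.Prime] [CharP F p] {m : ℕ} (hm : 4 ≤ m)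
    {r i : ℕ} (hr : r.Prime) (hrp : r ≠ p) (hrd : ¬ r ∣ Nat.card (Cfsg.GU (m - 2) F q))
    (M X : Matrix (Fin m) (Fin m) F) (ε : F) (hε : ε = 1 ∨ ε = -1)
    (hMa : ∀ u v, Cfsg.hermForm m F q (M *ᵥ u) v = ε * Cfsg.hermForm m F q u (M *ᵥ v))
    (hXu : ∀ u v, Cfsg.hermForm m F q (X *ᵥ u) (X *ᵥ v) = Cfsg.hermForm m F q u v)
    (hM : M ≠ 0) (hM2 : M * M = 0) (hX : X ^ r ^ i = 1) (hc : X * M = M * X) : X = 1 := by
  classical
  set S := hermSesq hF m with hS
  have hSs : ∀ u v, hermConj hF (S u v) = S v u := fun u v => by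
    show hermConj hF (Cfsg.hermForm m F q v u) = Cfsg.hermForm m F q u v
    rw [hermConj_apply, ← hermForm_symm hF]
  have hSnd : ∀ y, (∀ a, S y a = 0) → y = 0 := by
    intro y hy
    funext j
    have h := congrArg (hermConj hF) (hy (Pi.single j 1))
    rw [hSs, map_zero] at h
    rw [Pi.zero_apply, ← hermForm_single_right hF m y j]
    exact h
  have hε0 : ε ≠ 0 := by rcases hε with rfl | rfl <;> simp
  let W₁ := LinearMap.range M.mulVecLin
  let W₂ := LinearMap.ker M.mulVecLin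
  have hle : W₁ ≤ W₂ := by
    rintro _ ⟨v, rfl⟩
    simp [W₂, Matrix.mulVec_mulVec, hM2]
  have hmem2 : ∀ v, v ∈ W₂ ↔ M *ᵥ v = 0 := fun v => by simp [W₂]
  have horth : ∀ a ∈ W₂, ∀ y ∈ W₁, S y a = 0 := by
    rintro a ha _ ⟨c, rfl⟩
    have h := hMa a c
    rw [(hmem2 a).1 ha] at h
    show Cfsg.hermForm m F q a (M *ᵥ c) = 0
    simp only [hermForm_zero_left] at h
    exact (mul_eq_zero.1 h.symm).resolve_left hε0
  have hsum : finrank F W₁ + finrank F W₂ = m := by
    simpa using LinearMap.finrank_range_add_finrank_ker M.mulVecLin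
  have hd : 1 ≤ finrank F W₁ := by
    rw [Nat.one_le_iff_ne_zero]
    intro h
    rw [Submodule.finrank_eq_zero] at h
    refine hM (Matrix.ext_of_mulVec_single fun a => ?_)
    have : M.mulVecLin (Pi.single a 1) ∈ W₁ := LinearMap.mem_range_self _ _
    rw [h, Submodule.mem_bot] at this
    rw [Matrix.zero_mulVec]; exact this
  have hd2 := Submodule.finrank_mono hle
  have i1 : ∀ v ∈ W₁, X.mulVecLin v ∈ W₁ := by
    rintro _ ⟨v, rfl⟩
    exact ⟨X *ᵥ v, by simp [Matrix.mulVec_mulVec, hc]⟩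
  have i2 : ∀ v ∈ W₂, X.mulVecLin v ∈ W₂ := by
    intro v hv
    rw [hmem2] at hv ⊢
    rw [Matrix.mulVecLin_apply, Matrix.mulVec_mulVec, ← hc, ← Matrix.mulVec_mulVec, hv, Matrix.mulVec_zero]
  have hpowv : ∀ k (v : Fin m → F), (X.mulVecLin ^ k) v = (X ^ k) *ᵥ v := by
    intro k
    induction k with
    | zero => simp
    | succ k ih => intro v; rw [pow_succ', Module.End.mul_apply, ih, pow_succ', ← Matrix.mulVec_mulVec]; rfl
  -- a section of `M` over its image
  obtain ⟨s, hs⟩ := LinearMap.exists_rightInverse_of_surjective M.mulVecLin.rangeRestrict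
    (LinearMap.range_rangeRestrict _)
  have hMs : ∀ x : W₁, M *ᵥ s x = x := fun x => congrArg Subtype.val (LinearMap.congr_fun hs x)
  have hfac : ∀ (y : Fin m → F), y ∈ W₁ → ∀ a (x : W₁), M *ᵥ a = x → S y a = S y (s x) := by
    intro y hy a x hax
    have h : S y (a - s x) = 0 := horth _ ((hmem2 _).2 (by rw [mulVec_sub, hax, hMs, sub_self])) y hy
    rwa [map_sub, sub_eq_zero] at h
  -- the action on the image
  obtain ⟨δ, hδ0, hδ⟩ : ∃ δ : F, δ ≠ 0 ∧ hermConj hF δ * ε = δ := by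
    rcases hε with rfl | rfl
    · exact ⟨1, one_ne_zero, by simp⟩
    · obtain ⟨d, hd0, hd⟩ := exists_trace_zero hF
      exact ⟨d, hd0, by rw [hermConj_apply, hd]; ring⟩
  let β : W₁ →ₛₗ[hermConj hF] W₁ →ₗ[F] F :=
    LinearMap.mk₂'ₛₗ (hermConj hF) (RingHom.id F) (fun y x => δ * S (y : Fin m → F) (s x))
      (fun y y' x => by simp [mul_add]) (fun c y x => by simp [mul_left_comm])
      (fun y x x' => by simp [mul_add]) (fun c y x => by simp [mul_left_comm])
  have hβs : ∀ u v, hermConj hF (β u v) = β v u := by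
    intro u v
    show hermConj hF (δ * S (u : Fin m → F) (s v)) = δ * S (v : Fin m → F) (s u)
    rw [map_mul, hSs]
    show hermConj hF δ * Cfsg.hermForm m F q (u : Fin m → F) (s v) = δ * Cfsg.hermForm m F q (s u) (v : Fin m → F)
    rw [← hMs u, hMa, hMs v]
    linear_combination (Cfsg.hermForm m F q (s u) (v : Fin m → F)) * hδ
  have hβnd : β.SeparatingLeft := by
    intro y hy
    refine Subtype.ext (hSnd _ fun a => ?_)
    rw [hfac _ y.2 a ⟨M *ᵥ a, LinearMap.mem_range_self M.mulVecLin a⟩ rfl]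
    exact (mul_eq_zero.1 (hy ⟨M *ᵥ a, LinearMap.mem_range_self M.mulVecLin a⟩)).resolve_left hδ0
  have hrdle : ∀ {U : Type _} [AddCommGroup U] [Module F U] [FiniteDimensional F U],
      finrank F U ≤ m - 2 → ∀ (β : U →ₛₗ[hermConj hF] U →ₗ[F] F), (∀ u v, hermConj hF (β u v) = β v u) →
      β.SeparatingLeft → ∀ f : U →ₗ[F] U, f ^ r ^ i = 1 → (∀ u v, β (f u) (f v) = β u v) → f = 1 :=
    fun hU β h1 h2 f h3 h4 => eq_one_of_isometry hF hr hrd hU β h1 h2 f h3 h4
  have e1 : ∀ v ∈ W₁, X *ᵥ v = v := by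
    have h := hrdle (by omega) β hβs hβnd (X.mulVecLin.restrict i1)
      (LinearMap.ext fun v => Subtype.ext (by
        rw [Module.End.pow_restrict _ i1, LinearMap.coe_restrict_apply, hpowv, hX]; simp))
      (fun u v => by
        show δ * S (X *ᵥ (u : Fin m → F)) (s _) = δ * S (u : Fin m → F) (s v)
        rw [← hfac (X *ᵥ (u : Fin m → F)) (i1 _ u.2) (X *ᵥ s v) _ (by
          rw [mulVec_mulVec, ← hc, ← mulVec_mulVec, hMs]; rfl)]
        exact congrArg (δ * ·) (hXu _ _))
    intro v hv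
    exact congrArg Subtype.val (LinearMap.congr_fun h ⟨v, hv⟩)
  -- the action on the middle section
  have e2 : ∀ v ∈ W₂, X *ᵥ v - v ∈ W₁ := by
    let W₁' : Submodule F W₂ := W₁.comap W₂.subtype
    obtain ⟨t, ht⟩ := LinearMap.exists_rightInverse_of_surjective W₁'.mkQ (Submodule.range_mkQ _)
    have hwd : ∀ (x : W₂ ⧸ W₁') (a : W₂), W₁'.mkQ a = x → (a : Fin m → F) - t x ∈ W₁ := fun x a hax =>
      (Submodule.Quotient.eq W₁').1 (hax.trans (LinearMap.congr_fun ht x).symm)
    have horth' : ∀ a ∈ W₁, ∀ y ∈ W₂, S y a = 0 := fun a ha y hy => by rw [← hSs, horth y hy a ha, map_zero]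
    let γ : (W₂ ⧸ W₁') →ₛₗ[hermConj hF] (W₂ ⧸ W₁') →ₗ[F] F :=
      LinearMap.mk₂'ₛₗ (hermConj hF) (RingHom.id F) (fun y x => S (t y : Fin m → F) (t x : Fin m → F))
        (fun y y' x => by simp) (fun c y x => by simp) (fun y x x' => by simp) (fun c y x => by simp)
    have hγnd : γ.SeparatingLeft := by
      intro y hy
      set a : Fin m → F := (t y : Fin m → F)
      have ha : a ∈ W₂ := (t y).2
      have hker : ∀ w ∈ W₂, S a w = 0 := by
        intro w hw
        have h1 := hwd _ ⟨w, hw⟩ rfl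
        have h2 := horth' _ h1 a ha
        rw [map_sub, sub_eq_zero] at h2
        rw [h2]; exact hy _
      obtain ⟨ψ, hψ⟩ := LinearMap.exists_extend ((S a).comp s)
      set b : Fin m → F := fun j => (ψ (Pi.single j 1)) ^ q
      have hb : ∀ v, ψ v = S b v := by
        intro v
        show ψ v = Cfsg.hermForm m F q v b
        conv_lhs => rw [pi_eq_sum_univ' v, map_sum]
        refine Finset.sum_congr rfl fun j _ => ?_
        simp [b, hermConj_conj hF]
      have hab : a = ε • (M *ᵥ b) := by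
        rw [← sub_eq_zero]
        refine hSnd _ fun v => ?_
        have h1 : S a v = S b (M *ᵥ v) := by
          rw [← hb, show ψ (M *ᵥ v) = S a (s ⟨M *ᵥ v, LinearMap.mem_range_self M.mulVecLin v⟩) from
            LinearMap.congr_fun hψ ⟨M *ᵥ v, LinearMap.mem_range_self M.mulVecLin v⟩]
          have hv : v - s ⟨M *ᵥ v, LinearMap.mem_range_self M.mulVecLin v⟩ ∈ W₂ :=
            (hmem2 _).2 (by rw [mulVec_sub, hMs, sub_self])
          have h2 := hker _ hv
          rwa [map_sub, sub_eq_zero] at h2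
        have h3 : S b (M *ᵥ v) = ε * S (M *ᵥ b) v := hMa v b
        rw [map_sub, map_smulₛₗ, LinearMap.sub_apply, LinearMap.smul_apply, h1, h3, smul_eq_mul,
          show hermConj hF ε = ε by rcases hε with rfl | rfl <;> simp only [map_neg, map_one], sub_self]
      have hy' : y = W₁'.mkQ (t y) := (LinearMap.congr_fun ht y).symm
      rw [hy', Submodule.mkQ_apply, Submodule.Quotient.mk_eq_zero]
      show a ∈ W₁
      rw [hab]
      exact W₁.smul_mem _ (LinearMap.mem_range_self M.mulVecLin b)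
    let f := W₁'.mapQ W₁' (X.mulVecLin.restrict i2) (fun v hv => i1 v.1 hv)
    have hrank : finrank F (W₂ ⧸ W₁') ≤ m - 2 := by
      have h1 := W₁'.finrank_quotient_add_finrank
      have h2 : finrank F W₁' = finrank F W₁ := (Submodule.comapSubtypeEquivOfLe hle).finrank_eq
      omega
    have hf : f ^ r ^ i = 1 := by
      have hk : ∀ k (v : W₂), (f ^ k) (Submodule.Quotient.mk v) =
          Submodule.Quotient.mk ((X.mulVecLin.restrict i2 ^ k) v) := by
        intro k
        induction k with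
        | zero => simp
        | succ k ih => intro v; rw [pow_succ', Module.End.mul_apply, ih, pow_succ', Module.End.mul_apply]; rfl
      refine LinearMap.ext fun x => ?_
      obtain ⟨v, rfl⟩ := Submodule.Quotient.mk_surjective _ x
      rw [hk, Module.End.one_apply]
      congr 1
      exact Subtype.ext (by rw [Module.End.pow_restrict _ i2, LinearMap.coe_restrict_apply, hpowv, hX]; simp)
    have h := hrdle hrank γ (fun u v => hSs _ _) hγnd f hf (fun u v => by
      have hu : (X *ᵥ (t u : Fin m → F)) - t (f u) ∈ W₁ := hwd (f u) ⟨_, i2 _ (t u).2⟩ (by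
        conv_rhs => rw [← show W₁'.mkQ (t u) = u from LinearMap.congr_fun ht u]
        rfl)
      have hv : (X *ᵥ (t v : Fin m → F)) - t (f v) ∈ W₁ := hwd (f v) ⟨_, i2 _ (t v).2⟩ (by
        conv_rhs => rw [← show W₁'.mkQ (t v) = v from LinearMap.congr_fun ht v]
        rfl)
      show S (t (f u) : Fin m → F) (t (f v) : Fin m → F) = S (t u : Fin m → F) (t v : Fin m → F)
      have h1 := horth' _ hv _ (t (f u)).2
      rw [map_sub, sub_eq_zero] at h1
      have hXv : X *ᵥ (t v : Fin m → F) ∈ W₂ := i2 _ (t v).2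
      have h2 := horth _ hXv _ hu
      rw [map_sub, LinearMap.sub_apply, sub_eq_zero] at h2
      rw [← h1, ← h2]
      exact hXu _ _)
    intro v hv
    have h' := LinearMap.congr_fun h (Submodule.Quotient.mk (⟨v, hv⟩ : W₂))
    exact (Submodule.Quotient.eq W₁').mp h'
  have e3 : ∀ v, X *ᵥ v - v ∈ W₂ := fun v => (hmem2 _).2 (by
    rw [mulVec_sub, mulVec_mulVec, ← hc, ← mulVec_mulVec, e1 (M *ᵥ v) (LinearMap.mem_range_self M.mulVecLin v),
      sub_self])
  exact CfsgLib.Unipotent.eq_one_of_flag X hX (((Nat.coprime_primes hr Fact.out).mpr hrp).pow_left i) W₁ W₂ e1 e2 e3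

theorem psu_commute_primes (p : ℕ) [Fact p.Prime] [CharP F p] (m q : ℕ) (hm : 4 ≤ m)
    (hF : Fintype.card F = q ^ 2) (a b : Cfsg.PSU m F q) (ha : orderOf a = p) (hab : Commute a b) :
    (orderOf b).primeFactors ⊆ (Nat.card ↥(Cfsg.SU (m - 2) F q)).primeFactors := by
  classical
  intro r hr
  obtain ⟨hrp, hrb, -⟩ := Nat.mem_primeFactors.mp hr
  refine Nat.mem_primeFactors.mpr ⟨hrp, ?_, Nat.card_pos.ne'⟩
  by_cases hrpp : r = p
  · subst hrpp; exact char_dvd_card_su hF r (by omega)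
  by_contra hcon
  have hgu : ¬ r ∣ Nat.card (Cfsg.GU (m - 2) F q) := fun h =>
    hcon (prime_dvd_card_su_of_gu hF (by omega) hrp h)
  haveI : Nonempty (Fin m) := ⟨⟨0, by omega⟩⟩
  set Z := Subgroup.center (Cfsg.SU m F q) with hZ
  have hscal : ∀ c : F, c ^ p = 1 → c = 1 := fun c hc =>
    frobenius_inj F p (by rw [frobenius_def, frobenius_def, one_pow, hc])
  have hcen : ∀ z ∈ Z, ∃ c : F, c ≠ 0 ∧ z.1.1 = c • (1 : Matrix (Fin m) (Fin m) F) := by
    intro z hz
    have h := center_SU_scalar hF (n := m) ⟨z, hz⟩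
    let o : Fin m := ⟨0, by omega⟩
    have e : z.1.1 = z.1.1 o o • (1 : Matrix (Fin m) (Fin m) F) := by
      ext i j
      rcases eq_or_ne i j with rfl | hij
      · rw [Matrix.smul_apply, Matrix.one_apply_eq, smul_eq_mul, mul_one]; exact (h i o).2
      · rw [Matrix.smul_apply, Matrix.one_apply_ne hij, smul_zero]; exact (h i j).1 hij
    refine ⟨_, fun h0 => ?_, e⟩
    have hd := z.1.2
    rw [e, h0, zero_smul, Matrix.det_zero] at hd
    exact zero_ne_one hd
  have hpowcoe : ∀ (g : Cfsg.SU m F q) (k : ℕ), (g ^ k).1.1 = g.1.1 ^ k := fun g k => by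
    rw [Subgroup.coe_pow, Matrix.SpecialLinearGroup.coe_pow]
  have hone : ∀ g : Cfsg.SU m F q, g.1.1 = 1 → g = 1 := fun g hg => Subtype.ext (Subtype.ext hg)
  obtain ⟨A₀, rfl⟩ := QuotientGroup.mk_surjective a
  have hA₀p : A₀ ^ p ∈ Z := by
    rw [← QuotientGroup.eq_one_iff, QuotientGroup.mk_pow, ← ha, pow_orderOf_eq_one]
  obtain ⟨c₀, hc0, hc₀'⟩ := hcen _ hA₀p
  have hcop : (orderOf (A₀ ^ p)).Coprime p := by
    have : orderOf (A₀ ^ p) ∣ Fintype.card F - 1 := by
      refine orderOf_dvd_of_pow_eq_one (hone _ ?_)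
      rw [hpowcoe, hc₀', smul_pow, one_pow, FiniteField.pow_card_sub_one_eq_one c₀ hc0, one_smul]
    refine Nat.Coprime.coprime_dvd_left this ?_
    obtain ⟨k, hp', hk⟩ := FiniteField.card F p
    refine ((Nat.Prime.coprime_iff_not_dvd hp').mpr fun h => ?_).symm
    have h1 : p ∣ Fintype.card F := hk ▸ dvd_pow_self p k.ne_zero
    have h2 := Nat.dvd_sub h1 h
    rw [Nat.sub_sub_self Fintype.card_pos] at h2
    exact hp'.not_dvd_one h2
  obtain ⟨s, hs1, hs2⟩ : ∃ s, s ≡ 1 [MOD p] ∧ s ≡ 0 [MOD orderOf (A₀ ^ p)] :=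
    ⟨_, (Nat.chineseRemainder hcop.symm 1 0).2⟩
  let A := A₀ ^ s
  have hAp : A ^ p = 1 := by
    rw [← pow_mul, mul_comm, pow_mul]
    exact orderOf_dvd_iff_pow_eq_one.mp (Nat.modEq_zero_iff_dvd.mp hs2)
  have hAa : (A : Cfsg.PSU m F q) = (A₀ : Cfsg.PSU m F q) := by
    rw [QuotientGroup.mk_pow]
    conv_rhs => rw [← pow_one (A₀ : Cfsg.PSU m F q)]
    exact pow_eq_pow_iff_modEq.mpr (ha ▸ hs1)
  obtain ⟨B, rfl⟩ := QuotientGroup.mk_surjective b
  have hord := orderOf_map_dvd (QuotientGroup.mk' Z) B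
  obtain ⟨i, l, hl, hdecomp⟩ := Nat.exists_eq_pow_mul_and_not_dvd (orderOf_pos B).ne' r hrp.ne_one
  let X := B ^ l
  have hX : X ^ r ^ i = 1 := by rw [← pow_mul, mul_comm, ← hdecomp, pow_orderOf_eq_one]
  have hXne : (X : Cfsg.PSU m F q) ≠ 1 := by
    intro h
    rw [QuotientGroup.mk_pow, ← orderOf_dvd_iff_pow_eq_one] at h
    exact hl (hrb.trans h)
  have hAX : Commute A X := by
    have hcomm : (A : Cfsg.PSU m F q) * B = B * A := by rw [hAa]; exact hab
    have hz : B * A * B⁻¹ * A⁻¹ ∈ Z := by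
      rw [← QuotientGroup.eq_one_iff]
      simp only [QuotientGroup.mk_mul, QuotientGroup.mk_inv]
      rw [← hcomm, mul_inv_cancel_right, mul_inv_cancel]
    obtain ⟨c, -, hc'⟩ := hcen _ hz
    set z := B * A * B⁻¹ * A⁻¹ with hzdef
    have hzA : z * A = B * A * B⁻¹ := by rw [hzdef]; group
    have hzc : Commute z A := (Subgroup.mem_center_iff.mp hz A).symm
    have hzp : z ^ p = 1 := by
      have h1 := hzc.mul_pow p
      rw [hzA, conj_pow, hAp, mul_one, mul_inv_cancel, mul_one] at h1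
      exact h1.symm
    have hc1 : c = 1 := hscal c (by
      have h1 := congrArg (fun g : Cfsg.SU m F q => g.1.1) hzp
      simp only [hpowcoe, hc', smul_pow, one_pow] at h1
      have h2 := congrFun (congrFun h1 ⟨0, by omega⟩) ⟨0, by omega⟩
      simpa using h2)
    have hz1 : z = 1 := hone _ (by rw [hc', hc1, one_smul])
    have hBA : Commute A B := by
      rw [hz1, one_mul] at hzA
      exact (eq_mul_inv_iff_mul_eq.mp hzA)
    exact hBA.pow_right l
  set A' : Matrix (Fin m) (Fin m) F := A.1.1 with hA'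
  let N : Matrix (Fin m) (Fin m) F := A' - 1
  have hN0 : N ≠ 0 := by
    intro h
    have h1 : A = 1 := hone _ (sub_eq_zero.mp h)
    have h2 := ha
    rw [← hAa, h1, QuotientGroup.mk_one, orderOf_one] at h2
    exact (Fact.out : p.Prime).ne_one h2.symm
  have hNp : N ^ p = 0 := by
    simp only [N]
    rw [sub_pow_char_of_commute (p := p) (Commute.one_right A'), one_pow, hA', ← hpowcoe, hAp]
    exact sub_self _
  obtain ⟨k, hk1, hk2, hk3⟩ : ∃ k, N ^ k ≠ 0 ∧ N ^ (k + 1) = 0 ∧ 1 ≤ k := by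
    have hex : ∃ k, N ^ k = 0 := ⟨p, hNp⟩
    have h2 : 2 ≤ Nat.find hex := by
      rcases Nat.lt_or_ge (Nat.find hex) 2 with h | h
      · have hh := Nat.find_spec hex
        rcases Nat.eq_zero_or_pos (Nat.find hex) with h0 | h0
        · rw [h0, pow_zero] at hh; exact absurd hh one_ne_zero
        · rw [show Nat.find hex = 1 by omega, pow_one] at hh
          exact absurd hh hN0
      · exact h
    exact ⟨Nat.find hex - 1, Nat.find_min hex (by omega), pow_eq_zero_of_le (by omega) (Nat.find_spec hex),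
      by omega⟩
  set B' : Matrix (Fin m) (Fin m) F := (A⁻¹).1.1 with hB'
  have hBA : B' * A' = 1 := congrArg (fun g : Cfsg.SU m F q => g.1.1) (inv_mul_cancel A)
  have hAB : A' * B' = 1 := congrArg (fun g : Cfsg.SU m F q => g.1.1) (mul_inv_cancel A)
  have hpres : ∀ (g : Cfsg.SU m F q) u v,
      Cfsg.hermForm m F q (g.1.1 *ᵥ u) (g.1.1 *ᵥ v) = Cfsg.hermForm m F q u v := fun g u v => g.2 u v
  have hadj : ∀ (j : ℕ) u v,
      Cfsg.hermForm m F q ((N ^ j) *ᵥ u) v = Cfsg.hermForm m F q u (((B' - 1) ^ j) *ᵥ v) := by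
    intro j
    induction j with
    | zero => intro u v; simp
    | succ j ih =>
      intro u v
      rw [pow_succ, ← mulVec_mulVec, ih, pow_succ' (B' - 1), ← mulVec_mulVec]
      generalize ((B' - 1) ^ j) *ᵥ v = w
      simp only [N, sub_mulVec, one_mulVec, hermForm_sub_left, hermForm_sub_right hF]
      congr 1
      conv_lhs => rw [show w = A' *ᵥ (B' *ᵥ w) by rw [mulVec_mulVec, hAB, one_mulVec]]
      exact hpres A _ _
  have hBk : (B' - 1) ^ k = (-1 : F) ^ k • N ^ k := by
    have e : B' - 1 = (-1 : F) • (B' * N) := by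
      simp only [N, mul_sub, hBA, mul_one, neg_one_smul, neg_sub]
    have hcomm : Commute B' N := by
      simp only [N]
      exact ((show Commute B' A' from hBA.trans hAB.symm)).sub_right (Commute.one_right _)
    have hfix : B' * N ^ k = N ^ k := by
      have h : N * N ^ k = 0 := by rw [← pow_succ']; exact hk2
      have h' : A' * N ^ k = N ^ k := by
        have : (A' - 1) * N ^ k = 0 := h
        rw [sub_mul, one_mul, sub_eq_zero] at this
        exact this
      conv_lhs => rw [← h', ← mul_assoc, hBA, one_mul]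
    have hfix' : ∀ j, B' ^ j * N ^ k = N ^ k := by
      intro j
      induction j with
      | zero => simp
      | succ j ih => rw [pow_succ, mul_assoc, hfix, ih]
    rw [e, smul_pow, hcomm.mul_pow, hfix']
  refine hXne ?_
  rw [show X = 1 from hone _ (eq_one_of_commute hF hm hrp hrpp hgu (N ^ k) X.1.1 ((-1 : F) ^ k) (i := i) ?_ ?_
    (hpres X) hk1 ?_ ?_ ?_), QuotientGroup.mk_one]
  · exact (Nat.even_or_odd k).imp Even.neg_one_pow Odd.neg_one_pow
  · intro u v
    rw [hadj, hBk, Matrix.smul_mulVec, hermForm_smul_right]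
    congr 1
    rw [← hermConj_apply hF, map_pow, map_neg, map_one]
  · rw [← pow_add]; exact pow_eq_zero_of_le (by omega) hk2
  · rw [← hpowcoe, hX]; rfl
  · have h1 : Commute X.1.1 A' := congrArg (fun g : Cfsg.SU m F q => g.1.1) hAX.eq.symm
    exact ((h1.sub_right (Commute.one_right _)).pow_right k).eq

end CfsgLib.UnipotentPSU
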