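import Mathlib

set_option autoImplicit false

/-! Orders of `p`-elements of `GL_m` in characteristic `p`. -/

namespace CfsgLib.Unipotent

open Matrix

variable {F : Type*} [Field F] (p : ℕ) [Fact p.Prime] [CharP F p]

/-- The nilpotent shift. -/
def shiftMat (F : Type*) [Field F] (m : ℕ) : Matrix (Fin m) (Fin m) F :=
  Matrix.of fun i j => if i.val + 1 = j.val then 1 else 0

theorem shiftMat_pow_apply (m k : ℕ) (i j : Fin m) :
    (shiftMat F m ^ k) i j = if i.val + k = j.val then 1 else 0 := by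
  induction k generalizing j with
  | zero => simp [Matrix.one_apply, Fin.ext_iff]
  | succ k ih =>
    rw [pow_succ, Matrix.mul_apply]
    by_cases h : i.val + k < m
    · rw [Finset.sum_eq_single ⟨i.val + k, h⟩]
      · rw [ih, if_pos rfl, one_mul]
        simp [shiftMat, add_assoc]
      · intro b _ hb
        rw [ih, if_neg (fun e => hb (Fin.ext e.symm)), zero_mul]
      · simp
    · rw [Finset.sum_eq_zero, if_neg (by omega)]
      intro b _
      rw [ih, if_neg (by omega), zero_mul]

theorem shiftMat_pow_self (m : ℕ) : shiftMat F m ^ m = 0 := by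
  ext i j
  rw [shiftMat_pow_apply, if_neg (by omega)]
  rfl

theorem pow_eq_one_of_le {m j e : ℕ} (he : m ≤ p ^ e) (M : Matrix (Fin m) (Fin m) F)
    (hM : M ^ p ^ j = 1) : M ^ p ^ e = 1 := by
  rcases Nat.eq_zero_or_pos m with rfl | hm
  · exact Subsingleton.elim _ _
  haveI : Nonempty (Fin m) := ⟨⟨0, hm⟩⟩
  have hsub : ∀ k, (M - 1) ^ p ^ k = M ^ p ^ k - 1 := fun k => by
    rw [sub_pow_char_pow_of_commute (p := p) (n := k) (Commute.one_right M), one_pow]
  have hnil : IsNilpotent (M - 1) := ⟨p ^ j, by rw [hsub, hM, sub_self]⟩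
  have hchar : (M - 1).charpoly = Polynomial.X ^ m := by
    have h1 := Matrix.isNilpotent_charpoly_sub_pow_of_isNilpotent hnil
    rw [Fintype.card_fin] at h1
    exact sub_eq_zero.mp h1.eq_zero
  have hpow : (M - 1) ^ m = 0 := by
    have := Matrix.aeval_self_charpoly (M - 1)
    rwa [hchar, map_pow, Polynomial.aeval_X] at this
  have := pow_eq_zero_of_le he hpow
  rwa [hsub, sub_eq_zero] at this

theorem gl_p_element_orders [Fintype F] (m : ℕ) (hm : 1 ≤ m) :
    (∀ g : GL (Fin m) F, (∃ j : ℕ, orderOf g = p ^ j) → orderOf g < p * m) ∧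
      ∃ g : GL (Fin m) F, (∃ j : ℕ, orderOf g = p ^ j) ∧ m ≤ orderOf g := by
  haveI : Nonempty (Fin m) := ⟨⟨0, hm⟩⟩
  have hp : 1 < p := (Fact.out : p.Prime).one_lt
  have he : m ≤ p ^ Nat.clog p m := Nat.le_pow_clog hp m
  have hlt : p ^ Nat.clog p m < p * m := by
    rcases hm.eq_or_lt with h | h
    · subst h; simpa using hp
    · have h1 : p ^ (Nat.clog p m).pred < m := Nat.pow_pred_clog_lt_self hp h
      have h2 : 0 < Nat.clog p m := Nat.clog_pos hp h
      calc p ^ Nat.clog p m = p * p ^ (Nat.clog p m).pred := by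
            rw [← pow_succ', Nat.pred_eq_sub_one, Nat.sub_add_cancel h2]
        _ < p * m := Nat.mul_lt_mul_of_pos_left h1 (by omega)
  constructor
  · rintro g ⟨j, hj⟩
    have h1 : (g : Matrix (Fin m) (Fin m) F) ^ p ^ j = 1 := by
      rw [← Units.val_pow_eq_pow_val, ← hj, pow_orderOf_eq_one]; rfl
    have h2 : g ^ p ^ Nat.clog p m = 1 := Units.ext (by
      rw [Units.val_pow_eq_pow_val, pow_eq_one_of_le p he _ h1]; rfl)
    exact lt_of_le_of_lt (Nat.le_of_dvd (by positivity) (orderOf_dvd_of_pow_eq_one h2)) hlt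
  · let M : Matrix (Fin m) (Fin m) F := 1 + shiftMat F m
    have hM : ∀ k, M ^ p ^ k = 1 + shiftMat F m ^ p ^ k := fun k => by
      simp only [M]
      rw [add_pow_char_pow_of_commute (p := p) (n := k) (Commute.one_left (shiftMat F m)), one_pow]
    have h1 : M ^ p ^ Nat.clog p m = 1 := by
      rw [hM, pow_eq_zero_of_le he (shiftMat_pow_self m), add_zero]
    have hne : p ^ Nat.clog p m ≠ 0 := by positivity
    let g : GL (Fin m) F := Units.ofPowEqOne M _ h1 hne
    have hg : g ^ p ^ Nat.clog p m = 1 := Units.ext (by rw [Units.val_pow_eq_pow_val]; exact h1)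
    obtain ⟨i, -, hi⟩ := (Nat.dvd_prime_pow Fact.out).mp (orderOf_dvd_of_pow_eq_one hg)
    refine ⟨g, ⟨i, hi⟩, ?_⟩
    by_contra hcon
    push Not at hcon
    have h3 : M ^ p ^ i = 1 := by
      have := congrArg Units.val (pow_orderOf_eq_one g)
      rwa [hi, Units.val_pow_eq_pow_val] at this
    rw [hM, add_eq_left] at h3
    have h4 := congrFun (congrFun h3 ⟨0, hm⟩) ⟨p ^ i, hi ▸ hcon⟩
    rw [shiftMat_pow_apply] at h4
    simp at h4

end CfsgLib.Unipotent
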